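import Groth.Agent.Lib.AWN25.Crit

/-!
# The absolute weak normalization of a ring
-/

set_option autoImplicit false

universe u

open GrothLib.UHTower TensorProduct

namespace GrothLib.AWN25

variable (A : Type u) [CommRing A]

/-- All geometric points over the primes of `A`. -/
abbrev Pts : Type u := ∀ p : PrimeSpectrum A, AlgebraicClosure p.asIdeal.ResidueField

/-- The map to all geometric points. -/
noncomputable abbrev toPts : A →+* Pts A := algebraMap A (Pts A)

theorem isReduced_pts : IsReduced (Pts A) := ⟨fun z ⟨n, hn⟩ => funext fun p =>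
  IsReduced.eq_zero _ ⟨n, congrFun hn p⟩⟩

variable {A}

theorem existsUnique_hom_pts {C : Type u} [CommRing C] (ψ : A →+* C) (h : UH ψ) :
    ∃! χ : C →+* Pts A, χ.comp ψ = toPts A := by
  choose g hg using fun p : PrimeSpectrum A => exists_lift ψ h.1 h.2.1
    (algebraMap A (AlgebraicClosure p.asIdeal.ResidueField))
  refine ⟨RingHom.pi g, RingHom.ext fun a => funext fun p => RingHom.congr_fun (hg p) a, fun χ hχ => ?_⟩
  refine RingHom.ext fun c => funext fun p => ?_
  refine RingHom.congr_fun (h.2.2 _ ((Pi.evalRingHom _ p).comp χ) (g p) ?_) c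
  rw [RingHom.comp_assoc, hχ, hg p]
  rfl

variable (A)

/-- An element reached from some universal homeomorphism. -/
def Reached (z : Pts A) : Prop :=
  ∃ (C : Type u) (_ : CommRing C) (ψ : A →+* C) (χ : C →+* Pts A), UH ψ ∧ χ.comp ψ = toPts A ∧ z ∈ χ.range

variable {A}

theorem reached_toPts (a : A) : Reached A (toPts A a) :=
  ⟨A, inferInstance, RingHom.id A, toPts A, uh_of_bijective Function.bijective_id, RingHom.comp_id _, a, rfl⟩

theorem Reached.pair {z w : Pts A} (hz : Reached A z) (hw : Reached A w) :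
    ∃ (C : Type u) (_ : CommRing C) (ψ : A →+* C) (χ : C →+* Pts A),
      UH ψ ∧ χ.comp ψ = toPts A ∧ z ∈ χ.range ∧ w ∈ χ.range := by
  obtain ⟨C, _, ψ, χ, hψ, hχ, c, rfl⟩ := hz
  obtain ⟨D, _, ψ', χ', hψ', hχ', d, rfl⟩ := hw
  algebraize_only [ψ, ψ']
  let T : C ⊗[A] D →ₐ[A] Pts A := Algebra.TensorProduct.lift ⟨χ, RingHom.congr_fun hχ⟩
    ⟨χ', RingHom.congr_fun hχ'⟩ fun _ _ => Commute.all _ _
  refine ⟨C ⊗[A] D, inferInstance, algebraMap A _, T.toRingHom, uh_tensor hψ hψ', T.comp_algebraMap,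
    ⟨c ⊗ₜ 1, ?_⟩, ⟨1 ⊗ₜ d, ?_⟩⟩
  · change T (c ⊗ₜ 1) = χ c
    rw [Algebra.TensorProduct.lift_tmul, map_one, mul_one]
    rfl
  · change T (1 ⊗ₜ d) = χ' d
    rw [Algebra.TensorProduct.lift_tmul, map_one, one_mul]
    rfl

variable (A)

/-- The subring of points reached from universal homeomorphisms. -/
noncomputable def awn : Subring (Pts A) where
  carrier := {z | Reached A z}
  one_mem' := by simpa using reached_toPts (1 : A)
  zero_mem' := by simpa using reached_toPts (0 : A)
  mul_mem' := fun hz hw => by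
    obtain ⟨C, _, ψ, χ, h1, h2, h3, h4⟩ := hz.pair hw
    exact ⟨C, _, ψ, χ, h1, h2, χ.range.mul_mem h3 h4⟩
  add_mem' := fun hz hw => by
    obtain ⟨C, _, ψ, χ, h1, h2, h3, h4⟩ := hz.pair hw
    exact ⟨C, _, ψ, χ, h1, h2, χ.range.add_mem h3 h4⟩
  neg_mem' := fun ⟨C, _, ψ, χ, h1, h2, h3⟩ => ⟨C, _, ψ, χ, h1, h2, χ.range.neg_mem h3⟩

/-- The map to the weak normalization. -/
noncomputable def toAwn : A →+* awn A := (toPts A).codRestrict _ reached_toPts

theorem uh_toAwn : UH (toAwn A) := by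
  refine ⟨fun z => ?_, fun p => ?_, fun K _ f g e => RingHom.ext fun z => ?_⟩
  · obtain ⟨C, _, ψ, χ, hψ, hχ, c, hc⟩ := z.2
    obtain ⟨q, hq, hqc⟩ := hψ.1 c
    refine ⟨q, hq, Subtype.val_injective ?_⟩
    refine (Polynomial.hom_eval₂ q (toAwn A) (awn A).subtype z).trans ?_
    change Polynomial.eval₂ (toPts A) (z : Pts A) q = 0
    rw [← hc, ← hχ, ← Polynomial.hom_eval₂, hqc, map_zero]
  · let F : awn A →+* AlgebraicClosure p.asIdeal.ResidueField := (Pi.evalRingHom _ p).comp (awn A).subtype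
    refine ⟨⟨RingHom.ker F, RingHom.ker_isPrime F⟩, PrimeSpectrum.ext ?_⟩
    ext a
    change algebraMap A (AlgebraicClosure p.asIdeal.ResidueField) a = 0 ↔ _
    rw [IsScalarTower.algebraMap_apply A p.asIdeal.ResidueField, map_eq_zero,
      Ideal.algebraMap_residueField_eq_zero]
  · obtain ⟨C, _, ψ, χ, hψ, hχ, c, hc⟩ := z.2
    let χ' : C →+* awn A := χ.codRestrict _ fun c => ⟨C, inferInstance, ψ, χ, hψ, hχ, c, rfl⟩
    have hz : z = χ' c := Subtype.ext hc.symm
    have hcomp : χ'.comp ψ = toAwn A := RingHom.ext fun a => Subtype.ext (RingHom.congr_fun hχ a)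
    rw [hz]
    exact RingHom.congr_fun (hψ.2.2 K (f.comp χ') (g.comp χ')
      (by rw [RingHom.comp_assoc, RingHom.comp_assoc, hcomp, e])) c

theorem isRingAWN_toAwn : HTop.IsRingAWN (toAwn A) := by
  refine ⟨isUnivHomeo_iff_uh.2 (uh_toAwn A), fun C _ ψ hψ => ?_⟩
  obtain ⟨χ, hχ, huniq⟩ := existsUnique_hom_pts ψ (isUnivHomeo_iff_uh.1 hψ)
  refine ⟨χ.codRestrict _ fun c => ⟨C, inferInstance, ψ, χ, isUnivHomeo_iff_uh.1 hψ, hχ, c, rfl⟩,
    RingHom.ext fun a => Subtype.ext (RingHom.congr_fun hχ a), fun χ' hχ' => ?_⟩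
  refine RingHom.ext fun c => Subtype.ext ?_
  refine RingHom.congr_fun (huniq ((awn A).subtype.comp χ') ?_) c
  exact (RingHom.comp_assoc _ _ _).trans ((congrArg (awn A).subtype.comp hχ').trans rfl)

section Facts

variable {A} {B : Type u} [CommRing B]

/-- Maps to a reduced ring out of a radicial extension are determined by their restriction. -/
theorem eq_of_radic [IsReduced B] {C : Type u} [CommRing C] {ψ : A →+* C} (hr : Radic ψ) {f g : C →+* B}
    (e : f.comp ψ = g.comp ψ) : f = g := RingHom.ext fun c => eq_of_mod_primes fun P hP => by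
  let q : B →+* FractionRing (B ⧸ P) := (algebraMap _ _).comp (Ideal.Quotient.mk P)
  have := hr _ (q.comp f) (q.comp g)
    ((RingHom.comp_assoc _ _ _).trans ((congrArg q.comp e).trans (RingHom.comp_assoc _ _ _).symm))
  exact IsFractionRing.injective (B ⧸ P) (FractionRing (B ⧸ P)) (RingHom.congr_fun this c)

theorem isReduced_of_isRingAWN {φ : A →+* B} (h : HTop.IsRingAWN φ) : IsReduced B := by
  let N := nilradical B
  have : IsReduced (B ⧸ N) := (Ideal.isRadical_iff_quotient_reduced N).1 (Ideal.radical_isRadical _)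
  obtain ⟨s, hs, -⟩ := h.2 _ ((Ideal.Quotient.mk N).comp φ)
    (isUnivHomeo_iff_uh.2 (uh_comp (isUnivHomeo_iff_uh.1 h.1) (uh_quotient N le_rfl)))
  obtain ⟨t, -, ht⟩ := h.2 B φ h.1
  have e : s.comp (Ideal.Quotient.mk N) = RingHom.id B :=
    (ht _ ((RingHom.comp_assoc _ _ _).trans hs)).trans (ht _ (RingHom.id_comp φ)).symm
  exact isReduced_of_injective (Ideal.Quotient.mk N) (Function.LeftInverse.injective (g := s) (RingHom.congr_fun e))

theorem isAWNRing_of_isRingAWN {φ : A →+* B} (h : HTop.IsRingAWN φ) : HTop.IsAWNRing B := by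
  refine isAWNRing_of fun D _ _ χ hχ => ?_
  have hψ := uh_comp (isUnivHomeo_iff_uh.1 h.1) hχ
  obtain ⟨s, hs, -⟩ := h.2 D (χ.comp φ) (isUnivHomeo_iff_uh.2 hψ)
  obtain ⟨t, -, ht⟩ := h.2 B φ h.1
  have e1 : s.comp χ = RingHom.id B :=
    (ht _ ((RingHom.comp_assoc _ _ _).trans hs)).trans (ht _ (RingHom.id_comp φ)).symm
  have e2 : χ.comp s = RingHom.id D := eq_of_radic hψ.2.2
    ((RingHom.comp_assoc _ _ _).trans ((congrArg χ.comp hs).trans (RingHom.id_comp _).symm))
  exact ⟨Function.LeftInverse.injective (g := s) (RingHom.congr_fun e1),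
    Function.RightInverse.surjective (g := s) (RingHom.congr_fun e2)⟩

theorem isRingAWN_of {φ : A →+* B} (h : UH φ) (hB : HTop.IsAWNRing B) : HTop.IsRingAWN φ := by
  refine ⟨isUnivHomeo_iff_uh.2 h, fun C _ ψ hψ => ?_⟩
  have hψ' := isUnivHomeo_iff_uh.1 hψ
  have := isReduced_of_seminormal hB.1
  let _ : Algebra A B := φ.toAlgebra
  let _ : Algebra A C := ψ.toAlgebra
  let T := C ⊗[A] B
  let N := nilradical T
  let i : B →+* T := (Algebra.TensorProduct.includeRight (R := A) (A := C)).toRingHom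
  have hi : i.comp φ = algebraMap A T :=
    (Algebra.TensorProduct.includeRight (R := A) (A := C) (B := B)).comp_algebraMap
  have : IsReduced (T ⧸ N) := (Ideal.isRadical_iff_quotient_reduced N).1 (Ideal.radical_isRadical _)
  have hχ : UH ((Ideal.Quotient.mk N).comp i) := uh_comp (uh_cancel h (by
    rw [hi]; exact uh_tensor hψ' h)) (uh_quotient N le_rfl)
  let e := RingEquiv.ofBijective _ (bijective_of_awn hB hχ)
  let s : C →+* B := e.symm.toRingHom.comp ((Ideal.Quotient.mk N).comp Algebra.TensorProduct.includeLeftRingHom)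
  have hs : s.comp ψ = φ := RingHom.ext fun a => by
    refine e.symm_apply_eq.2 ?_
    change Ideal.Quotient.mk N (Algebra.TensorProduct.includeLeftRingHom (algebraMap A C a)) =
      Ideal.Quotient.mk N (i (φ a))
    exact congrArg _ (RingHom.congr_fun hi a).symm
  exact ⟨s, hs, fun s' hs' => eq_of_radic hψ'.2.2 (hs'.trans hs.symm)⟩

theorem isAWNRing_of_bijective {W : Type u} [CommRing W] {χ : B →+* W} (hW : HTop.IsAWNRing W)
    (hχ : Function.Bijective χ) : HTop.IsAWNRing B := by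
  let e := RingEquiv.ofBijective χ hχ
  refine isAWNRing_of fun D _ _ θ hθ => ?_
  have hb := bijective_of_awn hW (uh_comp (uh_of_bijective e.symm.bijective : UH e.symm.toRingHom) hθ)
  exact (Function.Bijective.of_comp_iff θ e.symm.bijective).1 hb

end Facts

end GrothLib.AWN25
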