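import Groth.Agent.Lib.AWN25.Local
import Groth.Agent.Lib.AWN25.Exists
import Mathlib.AlgebraicGeometry.AffineScheme

/-!
# Seminormal and absolutely weakly normal schemes are detected on all affine opens
-/

set_option autoImplicit false

universe u

open AlgebraicGeometry

namespace GrothLib.AWN25

theorem isSeminormalRing_of_equiv {A B : Type u} [CommRing A] [CommRing B] (e : A ≃+* B)
    (h : HTop.IsSeminormalRing A) : HTop.IsSeminormalRing B := by
  intro x y hxy
  obtain ⟨a, ⟨ha1, ha2⟩, hu⟩ := h (e.symm x) (e.symm y) (by rw [← map_pow, ← map_pow, hxy])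
  refine ⟨e a, ⟨?_, ?_⟩, fun b hb => ?_⟩
  · rw [← map_pow, ← ha1, e.apply_symm_apply]
  · rw [← map_pow, ← ha2, e.apply_symm_apply]
  · rw [← hu (e.symm b) ⟨by rw [← map_pow, ← hb.1], by rw [← map_pow, ← hb.2]⟩, e.apply_symm_apply]

theorem forall_affine_of_cover (Q : ∀ (A : Type u) [CommRing A], Prop)
    (hloc : ∀ (A : Type u) [CommRing A] (f : A) (L : Type u) [CommRing L] [Algebra A L]
      [IsLocalization.Away f L], Q A → Q L)
    (hcov : ∀ (A : Type u) [CommRing A] (s : Set A), Ideal.span s = ⊤ →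
      (∀ f ∈ s, Q (Localization.Away f)) → Q A)
    (hequiv : ∀ (A B : Type u) [CommRing A] [CommRing B], (A ≃+* B) → Q A → Q B)
    (X : Scheme.{u}) (h : ∀ x : X, ∃ U : X.affineOpens, x ∈ (U : X.Opens) ∧ Q Γ(X, U))
    (V : X.affineOpens) : Q Γ(X, V) := by
  choose U hU hQ using h
  refine of_affine_open_cover (P := fun V : X.affineOpens => Q Γ(X, V)) U ?_ V (fun W f hW => ?_)
    (fun W s hs hW => ?_) hQ
  · exact top_unique fun x _ => TopologicalSpace.Opens.mem_iSup.2 ⟨x, hU x⟩
  · have := W.2.isLocalization_basicOpen f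
    exact hloc Γ(X, W) f Γ(X, X.basicOpen f) hW
  · refine hcov Γ(X, W) s hs fun f hf => ?_
    have := W.2.isLocalization_basicOpen f
    exact hequiv Γ(X, X.basicOpen f) _
      (IsLocalization.algEquiv (Submonoid.powers f) Γ(X, X.basicOpen f) (Localization.Away f)).toRingEquiv
      (hW ⟨f, hf⟩)

theorem isSeminormal_iff (X : Scheme.{u}) :
    HTop.IsSeminormal X ↔ ∀ U : X.affineOpens, HTop.IsSeminormalRing Γ(X, U) := by
  refine ⟨forall_affine_of_cover (fun A _ => HTop.IsSeminormalRing A) (fun A _ f L _ _ _ h => isSeminormalRing_away f L h)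
    (fun A _ s hs h => isSeminormalRing_of_away s hs h) (fun A B _ _ e h => isSeminormalRing_of_equiv e h) X,
    fun h x => ?_⟩
  obtain ⟨U, hU, hx, -⟩ := exists_isAffineOpen_mem_and_subset (X := X) (x := x) (U := ⊤) trivial
  exact ⟨⟨U, hU⟩, hx, h _⟩

theorem isAWN_iff (X : Scheme.{u}) :
    HTop.IsAWN X ↔ ∀ U : X.affineOpens, HTop.IsAWNRing Γ(X, U) := by
  refine ⟨forall_affine_of_cover (fun A _ => HTop.IsAWNRing A) (fun A _ f L _ _ _ h => isAWNRing_away f L h)
    (fun A _ s hs h => isAWNRing_of_away s hs h)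
    (fun A B _ _ e h => isAWNRing_of_bijective h e.symm.bijective (χ := e.symm.toRingHom)) X, fun h x => ?_⟩
  obtain ⟨U, hU, hx, -⟩ := exists_isAffineOpen_mem_and_subset (X := X) (x := x) (U := ⊤) trivial
  exact ⟨⟨U, hU⟩, hx, h _⟩

end GrothLib.AWN25
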