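import Groth.Agent.Lib.UHTower.Inherit
import Mathlib.RingTheory.TensorProduct.Basic
import Mathlib.RingTheory.Localization.Integral

/-!
# Universal homeomorphisms of rings: geometric points, composition, base change
-/

set_option autoImplicit false

universe u

open CategoryTheory AlgebraicGeometry TensorProduct GrothLib.UHTower

namespace GrothLib.AWN25

/-- An integral map extends geometric points whose kernel is in the image. -/
theorem exists_lift {A C : Type u} [CommRing A] [CommRing C] (ψ : A →+* C) (hi : ψ.IsIntegral)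
    (hs : Function.Surjective (PrimeSpectrum.comap ψ)) {K : Type u} [Field K] [IsAlgClosed K]
    (f : A →+* K) : ∃ g : C →+* K, g.comp ψ = f := by
  have hp : (RingHom.ker f).IsPrime := RingHom.ker_isPrime f
  obtain ⟨Q, hQ⟩ := hs ⟨RingHom.ker f, hp⟩
  let p := RingHom.ker f
  have hQp : p = Q.asIdeal.comap ψ := (congrArg PrimeSpectrum.asIdeal hQ).symm
  let ι : A ⧸ p →+* C ⧸ Q.asIdeal := Ideal.quotientMap Q.asIdeal ψ hQp.le
  let f' : A ⧸ p →+* K := RingHom.kerLift f
  have hι : Function.Injective ι := Ideal.quotientMap_injective' hQp.ge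
  have hf' : Function.Injective f' := RingHom.kerLift_injective f
  algebraize [ι, f']
  have : Module.IsTorsionFree (A ⧸ p) (C ⧸ Q.asIdeal) :=
    Module.isTorsionFree_iff_algebraMap_injective.2 hι
  have : Module.IsTorsionFree (A ⧸ p) K := Module.isTorsionFree_iff_algebraMap_injective.2 hf'
  have : Algebra.IsIntegral (A ⧸ p) (C ⧸ Q.asIdeal) := ⟨fun c => by
    obtain ⟨c, rfl⟩ := Ideal.Quotient.mk_surjective c
    obtain ⟨q, hq, hqc⟩ := hi c
    refine ⟨q.map (Ideal.Quotient.mk p), hq.map _, ?_⟩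
    rw [Polynomial.eval₂_map]
    have e : (algebraMap (A ⧸ p) (C ⧸ Q.asIdeal)).comp (Ideal.Quotient.mk p) =
        (Ideal.Quotient.mk Q.asIdeal).comp ψ := Ideal.quotientMap_comp_mk _
    rw [e, ← Polynomial.hom_eval₂, hqc, map_zero]⟩
  let l : C ⧸ Q.asIdeal →ₐ[A ⧸ p] K := IsAlgClosed.lift
  refine ⟨l.toRingHom.comp (Ideal.Quotient.mk _), RingHom.ext fun a => ?_⟩
  exact (l.commutes (Ideal.Quotient.mk p a))

theorem radic_comp {A B C : Type u} [CommRing A] [CommRing B] [CommRing C] {φ : A →+* B} {χ : B →+* C}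
    (h : Radic φ) (h' : Radic χ) : Radic (χ.comp φ) := fun K _ f g e =>
  h' K f g (h K _ _ (by rw [RingHom.comp_assoc, RingHom.comp_assoc]; exact e))

theorem uh_comp {A B C : Type u} [CommRing A] [CommRing B] [CommRing C] {φ : A →+* B} {χ : B →+* C}
    (h : UH φ) (h' : UH χ) : UH (χ.comp φ) :=
  ⟨RingHom.IsIntegral.trans φ χ h.1 h'.1, by
    rw [PrimeSpectrum.comap_comp]
    exact h.2.1.comp h'.2.1, radic_comp h.2.2 h'.2.2⟩

theorem uh_cancel {A B C : Type u} [CommRing A] [CommRing B] [CommRing C] {φ : A →+* B} {χ : B →+* C}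
    (h : UH φ) (h' : UH (χ.comp φ)) : UH χ := by
  refine ⟨RingHom.IsIntegral.tower_top φ χ h'.1, fun q => ?_, fun K _ f g e => h'.2.2 K f g ?_⟩
  · obtain ⟨Q, hQ⟩ := h'.2.1 (PrimeSpectrum.comap φ q)
    rw [PrimeSpectrum.comap_comp_apply] at hQ
    exact ⟨Q, h.2.2.injComap hQ⟩
  · rw [← RingHom.comp_assoc, ← RingHom.comp_assoc, e]

theorem uh_of_bijective {A B : Type u} [CommRing A] [CommRing B] {φ : A →+* B}
    (h : Function.Bijective φ) : UH φ :=
  ⟨RingHom.isIntegral_of_surjective φ h.2, fun q => ⟨PrimeSpectrum.comap (RingEquiv.ofBijective φ h).symm.toRingHom q,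
    PrimeSpectrum.ext (by
      ext a
      change (RingEquiv.ofBijective φ h).symm (φ a) ∈ q.asIdeal ↔ _
      rw [show φ a = RingEquiv.ofBijective φ h a from rfl, RingEquiv.symm_apply_apply])⟩,
    fun K _ f g e => RingHom.ext fun b => by
      obtain ⟨a, rfl⟩ := h.2 b
      exact RingHom.congr_fun e a⟩

theorem uh_quotient {A : Type u} [CommRing A] (I : Ideal A) (h : I ≤ nilradical A) :
    UH (Ideal.Quotient.mk I) := by
  refine ⟨RingHom.isIntegral_of_surjective _ Ideal.Quotient.mk_surjective, fun q => ?_,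
    fun K _ f g e => RingHom.ext fun b => ?_⟩
  · refine ⟨⟨q.asIdeal.map (Ideal.Quotient.mk I), Ideal.map_isPrime_of_surjective Ideal.Quotient.mk_surjective ?_⟩,
      PrimeSpectrum.ext ?_⟩
    · rw [Ideal.mk_ker]
      exact h.trans (nilradical_le_prime _)
    · change (q.asIdeal.map (Ideal.Quotient.mk I)).comap (Ideal.Quotient.mk I) = q.asIdeal
      rw [Ideal.comap_map_of_surjective _ Ideal.Quotient.mk_surjective, ← RingHom.ker_eq_comap_bot,
        Ideal.mk_ker, sup_eq_left]
      exact h.trans (nilradical_le_prime _)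
  · obtain ⟨a, rfl⟩ := Ideal.Quotient.mk_surjective b
    exact RingHom.congr_fun e a

theorem uh_tensor {A C D : Type u} [CommRing A] [CommRing C] [CommRing D] [Algebra A C] [Algebra A D]
    (hC : UH (algebraMap A C)) (hD : UH (algebraMap A D)) : UH (algebraMap A (C ⊗[A] D)) := by
  have : Algebra.IsIntegral A C := ⟨hC.1⟩
  have : Algebra.IsIntegral A D := ⟨hD.1⟩
  have eC : ∀ (K : Type u) [Field K] (f : C ⊗[A] D →+* K),
      (f.comp (Algebra.TensorProduct.includeLeftRingHom)).comp (algebraMap A C) =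
        f.comp (algebraMap A (C ⊗[A] D)) := fun K _ f => RingHom.ext fun a => rfl
  have eD : ∀ (K : Type u) [Field K] (f : C ⊗[A] D →+* K),
      (f.comp (Algebra.TensorProduct.includeRight (R := A) (A := C) (B := D)).toRingHom).comp (algebraMap A D) =
        f.comp (algebraMap A (C ⊗[A] D)) := fun K _ f => RingHom.ext fun a => congrArg f (AlgHom.commutes _ a)
  refine ⟨fun z => ?_, fun p => ?_, fun K _ f g e => ?_⟩
  · induction z using TensorProduct.induction_on with
    | zero => exact isIntegral_zero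
    | add a b ha hb => exact IsIntegral.add ha hb
    | tmul c d =>
      have h1 : IsIntegral A (c ⊗ₜ[A] (1 : D)) :=
        (Algebra.IsIntegral.isIntegral (R := A) c).map (Algebra.TensorProduct.includeLeft (R := A) (S := A) (B := D))
      have h2 : IsIntegral A ((1 : C) ⊗ₜ[A] d) :=
        (Algebra.IsIntegral.isIntegral (R := A) d).map (Algebra.TensorProduct.includeRight (R := A) (A := C))
      have h3 := h1.mul h2
      rw [Algebra.TensorProduct.tmul_mul_tmul, mul_one, one_mul] at h3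
      exact h3
  · let K := AlgebraicClosure p.asIdeal.ResidueField
    let f : A →+* K := (algebraMap p.asIdeal.ResidueField K).comp (algebraMap A p.asIdeal.ResidueField)
    obtain ⟨g, hg⟩ := exists_lift _ hC.1 hC.2.1 f
    obtain ⟨g', hg'⟩ := exists_lift _ hD.1 hD.2.1 f
    let _ : Algebra A K := f.toAlgebra
    let F : C ⊗[A] D →ₐ[A] K := Algebra.TensorProduct.lift ⟨g, RingHom.congr_fun hg⟩ ⟨g', RingHom.congr_fun hg'⟩
      fun _ _ => Commute.all _ _
    refine ⟨⟨RingHom.ker F.toRingHom, RingHom.ker_isPrime _⟩, PrimeSpectrum.ext ?_⟩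
    change (RingHom.ker F.toRingHom).comap (algebraMap A (C ⊗[A] D)) = p.asIdeal
    rw [RingHom.comap_ker]
    ext a
    rw [RingHom.mem_ker]
    change F (algebraMap A (C ⊗[A] D) a) = 0 ↔ _
    rw [F.commutes]
    change algebraMap p.asIdeal.ResidueField K (algebraMap A p.asIdeal.ResidueField a) = 0 ↔ _
    rw [map_eq_zero, Ideal.algebraMap_residueField_eq_zero]
  · have h1 := hC.2.2 K (f.comp Algebra.TensorProduct.includeLeftRingHom)
      (g.comp Algebra.TensorProduct.includeLeftRingHom) (by rw [eC, eC, e])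
    have h2 := hD.2.2 K (f.comp (Algebra.TensorProduct.includeRight (R := A) (A := C) (B := D)).toRingHom)
      (g.comp (Algebra.TensorProduct.includeRight (R := A) (A := C) (B := D)).toRingHom) (by rw [eD, eD, e])
    refine RingHom.ext fun z => ?_
    induction z using TensorProduct.induction_on with
    | zero => simp
    | add a b ha hb => simp [ha, hb]
    | tmul c d =>
      have e1 : f (c ⊗ₜ[A] (1 : D)) = g (c ⊗ₜ[A] (1 : D)) := RingHom.congr_fun h1 c
      have e2 : f ((1 : C) ⊗ₜ[A] d) = g ((1 : C) ⊗ₜ[A] d) := RingHom.congr_fun h2 d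
      have e3 : c ⊗ₜ[A] d = (c ⊗ₜ[A] (1 : D)) * ((1 : C) ⊗ₜ[A] d) := by simp
      rw [e3, map_mul, map_mul, e1, e2]

theorem uh_localizationMap {A B : Type u} [CommRing A] [CommRing B] {φ : A →+* B} (h : UH φ) (M : Submonoid A)
    (Aₘ Bₘ : Type u) [CommRing Aₘ] [CommRing Bₘ] [Algebra A Aₘ] [Algebra B Bₘ] [IsLocalization M Aₘ]
    [IsLocalization (M.map (φ : A →* B)) Bₘ] :
    UH (IsLocalization.map Bₘ φ (show M ≤ (M.map (φ : A →* B)).comap φ from M.le_comap_map) : Aₘ →+* Bₘ) := by
  let _ : Algebra A B := φ.toAlgebra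
  let m : Aₘ →+* Bₘ := IsLocalization.map Bₘ φ (show M ≤ (M.map (φ : A →* B)).comap φ from M.le_comap_map)
  have hm : m.comp (algebraMap A Aₘ) = (algebraMap B Bₘ).comp φ := IsLocalization.map_comp _
  refine ⟨?_, fun q => ?_, fun K _ f g e => ?_⟩
  · have : Algebra.IsIntegral A B := ⟨h.1⟩
    have : IsLocalization (Algebra.algebraMapSubmonoid B M) Bₘ := ‹IsLocalization (M.map (φ : A →* B)) Bₘ›
    exact isIntegral_localization (R := A) (S := B) (M := M) (Rₘ := Aₘ) (Sₘ := Bₘ)
  · obtain ⟨Q, hQ⟩ := h.2.1 (PrimeSpectrum.comap (algebraMap A Aₘ) q)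
    have hdis : Disjoint (M.map (φ : A →* B) : Set B) Q.asIdeal := Set.disjoint_left.2 <| by
      rintro _ ⟨s, hs, rfl⟩ hQs
      have h1 : s ∈ (q.asIdeal.comap (algebraMap A Aₘ)) := by
        have h2 : s ∈ Q.asIdeal.comap φ := hQs
        rwa [show Q.asIdeal.comap φ = q.asIdeal.comap (algebraMap A Aₘ) from congrArg PrimeSpectrum.asIdeal hQ] at h2
      exact q.isPrime.ne_top (Ideal.eq_top_of_isUnit_mem _ h1 (IsLocalization.map_units Aₘ ⟨s, hs⟩))
    obtain ⟨Q', hQ'⟩ : ∃ Q' : PrimeSpectrum Bₘ, PrimeSpectrum.comap (algebraMap B Bₘ) Q' = Q := by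
      have := IsLocalization.isPrime_of_isPrime_disjoint (M.map (φ : A →* B)) Bₘ Q.asIdeal Q.isPrime hdis
      exact ⟨⟨_, this⟩, PrimeSpectrum.ext
        (IsLocalization.under_map_of_isPrime_disjoint (M.map (φ : A →* B)) Bₘ Q.isPrime hdis)⟩
    refine ⟨Q', PrimeSpectrum.localization_comap_injective Aₘ M ?_⟩
    rw [← PrimeSpectrum.comap_comp_apply]
    exact ((congrArg (fun t => PrimeSpectrum.comap t Q') hm).trans (PrimeSpectrum.comap_comp_apply _ _ _)).trans
      ((congrArg _ hQ').trans hQ)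
  · refine IsLocalization.ringHom_ext (M.map (φ : A →* B)) (h.2.2 K _ _ ?_)
    rw [RingHom.comp_assoc, RingHom.comp_assoc, ← hm, ← RingHom.comp_assoc, ← RingHom.comp_assoc, e]

end GrothLib.AWN25
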