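import Groth.Agent.Lib.AWN25.Basic
import Groth.Agent.Lib.UHTower.Lift
import Groth.Agent.S7402
import Groth.Agent.S7403
import Groth.Prelude.Def_HTop2

/-!
# Seminormal and absolutely weakly normal rings through reduced universal homeomorphisms
-/

set_option autoImplicit false

universe u

open Polynomial GrothLib.UHTower

namespace GrothLib.AWN25

theorem eq_of_mod_primes {R : Type u} [CommRing R] [IsReduced R] {a b : R}
    (h : ∀ P : Ideal R, P.IsPrime → Ideal.Quotient.mk P a = Ideal.Quotient.mk P b) : a = b := by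
  refine sub_eq_zero.1 (IsReduced.eq_zero _ (mem_nilradical.1 ?_))
  rw [nilradical_eq_sInf, Ideal.mem_sInf]
  exact fun {P} hP => (Ideal.Quotient.mk_eq_mk_iff_sub_mem _ _).1 (h P hP)

theorem eq_of_sq_cube {R : Type u} [CommRing R] [IsReduced R] {a b : R} (h2 : a ^ 2 = b ^ 2)
    (h3 : a ^ 3 = b ^ 3) : a = b := by
  refine sub_eq_zero.1 (IsReduced.eq_zero _ ⟨3, ?_⟩)
  linear_combination 4 * h3 - 3 * (a + b) * h2

theorem eq_of_prime_pow {R : Type u} [CommRing R] [IsReduced R] {p : ℕ} (hp : p.Prime) {a b : R}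
    (h1 : a ^ p = b ^ p) (h2 : (p : R) * a = (p : R) * b) : a = b := by
  refine eq_of_mod_primes fun P hP => ?_
  set x := Ideal.Quotient.mk P a
  set y := Ideal.Quotient.mk P b
  have e1 : x ^ p = y ^ p := by rw [← map_pow, ← map_pow, h1]
  have e2 : (p : R ⧸ P) * x = (p : R ⧸ P) * y := by rw [← map_natCast (Ideal.Quotient.mk P), ← map_mul, ← map_mul, h2]
  by_cases h0 : (p : R ⧸ P) = 0
  · have : CharP (R ⧸ P) p := (CharP.charP_iff_prime_eq_zero hp).2 h0
    have : Fact p.Prime := ⟨hp⟩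
    exact sub_eq_zero.1 ((pow_eq_zero_iff hp.ne_zero).1 (by rw [sub_pow_char, e1, sub_self]))
  · exact mul_left_cancel₀ h0 e2

theorem isReduced_of_seminormal {A : Type u} [CommRing A] (h : HTop.IsSeminormalRing A) : IsReduced A := by
  refine (isReduced_iff_pow_one_lt 2 one_lt_two).2 fun a ha => ?_
  obtain ⟨c, -, hc⟩ := h 0 0 (by simp)
  refine (hc a ⟨ha.symm, ?_⟩).trans (hc 0 ⟨by simp, by simp⟩).symm
  rw [pow_succ, ha, zero_mul]

variable {A B : Type u} [CommRing A] [CommRing B] {φ : A →+* B}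

theorem injective_of_surjective_comap [IsReduced A] (hs : Function.Surjective (PrimeSpectrum.comap φ)) :
    Function.Injective φ := by
  refine (injective_iff_map_eq_zero φ).2 fun a ha => IsReduced.eq_zero _ (mem_nilradical.1 ?_)
  rw [nilradical_eq_sInf, Ideal.mem_sInf]
  intro P hP
  obtain ⟨Q, hQ⟩ := hs ⟨P, hP⟩
  rw [show P = Q.asIdeal.comap φ from (congrArg PrimeSpectrum.asIdeal hQ).symm, Ideal.mem_comap, ha]
  exact Q.asIdeal.zero_mem

theorem gsq_mem_range [IsReduced B] [Algebra A B] (hA : HTop.IsSeminormalRing A)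
    (hinj : Function.Injective (algebraMap A B)) (b : B) (hb : GSQ (⊥ : Subalgebra A B) b) :
    b ∈ (⊥ : Subalgebra A B) := by
  obtain ⟨x, hx⟩ := Algebra.mem_bot.1 hb.1
  obtain ⟨y, hy⟩ := Algebra.mem_bot.1 hb.2
  obtain ⟨a, ⟨ha1, ha2⟩, -⟩ := hA x y (hinj (by rw [map_pow, map_pow, hx, hy]; ring))
  exact Algebra.mem_bot.2 ⟨a, eq_of_sq_cube (by rw [← map_pow, ← ha1, hx]) (by rw [← map_pow, ← ha2, hy])⟩

theorem gp_mem_range [IsReduced B] [Algebra A B] (hA : HTop.IsAWNRing A)
    (hinj : Function.Injective (algebraMap A B)) (b : B) (hb : GP (⊥ : Subalgebra A B) b) :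
    b ∈ (⊥ : Subalgebra A B) := by
  rcases hb with hb | ⟨p, hp, h1, h2⟩
  · exact gsq_mem_range hA.1 hinj b hb
  obtain ⟨y, hy⟩ := Algebra.mem_bot.1 h1
  obtain ⟨x, hx⟩ := Algebra.mem_bot.1 h2
  obtain ⟨a, ⟨ha1, ha2⟩, -⟩ := hA.2 p hp x y (hinj (by
    rw [map_mul, map_pow, map_pow, map_natCast, hx, hy, mul_pow]))
  exact Algebra.mem_bot.2 ⟨a, eq_of_prime_pow hp (by rw [← map_pow, ← ha1, hx])
    (by rw [← map_natCast (algebraMap A B), ← map_mul, ← ha2, hy, map_natCast])⟩

/-- An absolutely weakly normal ring has no nontrivial reduced universal homeomorphism. -/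
theorem bijective_of_awn (hA : HTop.IsAWNRing A) [IsReduced B] (h : UH φ) : Function.Bijective φ := by
  have := isReduced_of_seminormal hA.1
  have hinj := injective_of_surjective_comap (φ := φ) h.2.1
  algebraize_only [φ]
  refine ⟨hinj, fun b => Algebra.mem_bot.1 ?_⟩
  rw [eq_top_of_hasTowers mono_gp (⊥ : Subalgebra A B) (gp_mem_range hA hinj) (hasTowers_gp h)]
  trivial

/-- A seminormal ring has no nontrivial reduced universal homeomorphism with trivial residue extensions. -/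
theorem bijective_of_seminormal (hA : HTop.IsSeminormalRing A) [IsReduced B] (h : UH φ) (ht : TrivRes φ) :
    Function.Bijective φ := by
  have := isReduced_of_seminormal hA
  have hinj := injective_of_surjective_comap (φ := φ) h.2.1
  algebraize_only [φ]
  refine ⟨hinj, fun b => Algebra.mem_bot.1 ?_⟩
  rw [eq_top_of_hasTowers mono_gsq (⊥ : Subalgebra A B) (gsq_mem_range hA hinj) (hasTowers_gsq h ht)]
  trivial

theorem trivRes_quotient_comp (h : TrivRes φ) (I : Ideal B) : TrivRes ((Ideal.Quotient.mk I).comp φ) := by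
  intro Q _ b
  obtain ⟨b, rfl⟩ := Ideal.Quotient.mk_surjective b
  obtain ⟨s, a, hs, ha⟩ := h (Q.comap (Ideal.Quotient.mk I)) b
  refine ⟨s, a, hs, ?_⟩
  rw [RingHom.comp_apply, RingHom.comp_apply, ← map_mul, ← map_sub]
  exact ha

/-- The reduction of the quotient in a test extension. -/
theorem exists_root_reduced (I : Ideal A[X]) (hu : UH (algebraMap A (A[X] ⧸ I)))
    (hbij : ∀ (D : Type u) [CommRing D] [IsReduced D] (χ : A →+* D), UH χ → Function.Bijective χ) :
    ∃ a : A, ∀ f ∈ I, f.eval a = 0 := by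
  let N := nilradical (A[X] ⧸ I)
  have : IsReduced ((A[X] ⧸ I) ⧸ N) :=
    (Ideal.isRadical_iff_quotient_reduced N).1 (Ideal.radical_isRadical _)
  have hb := hbij ((A[X] ⧸ I) ⧸ N) ((Ideal.Quotient.mk N).comp (algebraMap A (A[X] ⧸ I)))
    (uh_comp hu (uh_quotient N le_rfl))
  obtain ⟨a, ha⟩ := hb.2 (Ideal.Quotient.mk N (Ideal.Quotient.mk I X))
  refine ⟨a, fun f hf => hb.1 ?_⟩
  rw [map_zero]
  let χ : A[X] →+* (A[X] ⧸ I) ⧸ N := (Ideal.Quotient.mk N).comp (Ideal.Quotient.mk I)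
  have e : (((Ideal.Quotient.mk N).comp (algebraMap A (A[X] ⧸ I))).comp (evalRingHom a)) = χ := by
    refine Polynomial.ringHom_ext (fun c => ?_) ?_
    · simp [χ]; rfl
    · simpa [χ] using ha
  refine (RingHom.congr_fun e f).trans ?_
  change Ideal.Quotient.mk N (Ideal.Quotient.mk I f) = 0
  rw [Ideal.Quotient.eq_zero_iff_mem.2 hf, map_zero]

theorem isReduced_of_uh_bijective (h : ∀ (D : Type u) [CommRing D] [IsReduced D] (χ : A →+* D),
      UH χ → TrivRes χ → Function.Bijective χ) : IsReduced A := by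
  let N := nilradical A
  have : IsReduced (A ⧸ N) := (Ideal.isRadical_iff_quotient_reduced N).1 (Ideal.radical_isRadical _)
  refine isReduced_of_injective (Ideal.Quotient.mk N) (h _ _ (uh_quotient N le_rfl) fun Q _ b => ?_).1
  obtain ⟨b, rfl⟩ := Ideal.Quotient.mk_surjective b
  exact ⟨1, b, by simpa using ‹Q.IsPrime›.one_notMem, by simp⟩

theorem isSeminormalRing_of (h : ∀ (D : Type u) [CommRing D] [IsReduced D] (χ : A →+* D),
      UH χ → TrivRes χ → Function.Bijective χ) : HTop.IsSeminormalRing A := by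
  have := isReduced_of_uh_bijective h
  intro x y hxy
  obtain ⟨hu, hr⟩ := Groth.Agent.S7402.result A x y hxy
  let I : Ideal A[X] := Ideal.span ({X ^ 2 - C x, X ^ 3 - C y} : Set A[X])
  let N := nilradical (A[X] ⧸ I)
  have : IsReduced ((A[X] ⧸ I) ⧸ N) :=
    (Ideal.isRadical_iff_quotient_reduced N).1 (Ideal.radical_isRadical _)
  have hb := h ((A[X] ⧸ I) ⧸ N) ((Ideal.Quotient.mk N).comp (algebraMap A (A[X] ⧸ I)))
    (uh_comp (isUnivHomeo_iff_uh.1 hu) (uh_quotient N le_rfl))
    (trivRes_quotient_comp (surjective_residueFieldMap_iff.1 hr) N)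
  obtain ⟨a, ha⟩ := hb.2 (Ideal.Quotient.mk N (Ideal.Quotient.mk I X))
  have key : ∀ (k : ℕ) (c : A), (X ^ k - C c : A[X]) ∈ I → c = a ^ k := fun k c hc => hb.1 (by
    rw [map_pow, ha, ← map_pow, ← map_pow]
    exact congrArg (Ideal.Quotient.mk N) ((Ideal.Quotient.mk_eq_mk_iff_sub_mem _ _).2 hc).symm)
  refine ⟨a, ⟨key 2 x (Ideal.subset_span (by simp)), key 3 y (Ideal.subset_span (by simp))⟩, fun b hb' => ?_⟩
  exact eq_of_sq_cube (hb'.1.symm.trans (key 2 x (Ideal.subset_span (by simp))))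
    (hb'.2.symm.trans (key 3 y (Ideal.subset_span (by simp))))

theorem isAWNRing_of (h : ∀ (D : Type u) [CommRing D] [IsReduced D] (χ : A →+* D),
      UH χ → Function.Bijective χ) : HTop.IsAWNRing A := by
  have h' : ∀ (D : Type u) [CommRing D] [IsReduced D] (χ : A →+* D),
      UH χ → TrivRes χ → Function.Bijective χ := fun D _ _ χ hu _ => h D χ hu
  have := isReduced_of_uh_bijective h'
  refine ⟨isSeminormalRing_of h', fun p hp x y hxy => ?_⟩
  obtain ⟨a, ha⟩ := exists_root_reduced _ (isUnivHomeo_iff_uh.1 (Groth.Agent.S7403.result A p hp x y hxy)) h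
  have e1 := ha (X ^ p - C x) (Ideal.subset_span (by simp))
  have e2 := ha (C (p : A) * X - C y) (Ideal.subset_span (by simp))
  simp only [eval_sub, eval_pow, eval_X, eval_C, eval_mul, sub_eq_zero] at e1 e2
  exact ⟨a, ⟨e1.symm, e2.symm⟩, fun b hb => eq_of_prime_pow hp (hb.1.symm.trans e1.symm) (hb.2.symm.trans e2.symm)⟩

end GrothLib.AWN25
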