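import Groth.Agent.Lib.AWN25.Crit
import Mathlib.RingTheory.RingHom.Surjective
import Mathlib.RingTheory.LocalProperties.Reduced

/-!
# Locality of seminormality and absolute weak normality
-/

set_option autoImplicit false

universe u

open GrothLib.UHTower

namespace GrothLib.AWN25

variable {A B : Type u} [CommRing A] [CommRing B]

theorem trivRes_localizationMap {φ : A →+* B} (h : TrivRes φ) (M : Submonoid A)
    (Aₘ Bₘ : Type u) [CommRing Aₘ] [CommRing Bₘ] [Algebra A Aₘ] [Algebra B Bₘ] [IsLocalization M Aₘ]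
    [IsLocalization (M.map (φ : A →* B)) Bₘ] :
    TrivRes (IsLocalization.map Bₘ φ (show M ≤ (M.map (φ : A →* B)).comap φ from M.le_comap_map) : Aₘ →+* Bₘ) := by
  set m : Aₘ →+* Bₘ := IsLocalization.map Bₘ φ (show M ≤ (M.map (φ : A →* B)).comap φ from M.le_comap_map)
  intro Q _ z
  obtain ⟨⟨b, ⟨_, μ, hμ, rfl⟩⟩, hz⟩ := IsLocalization.surj (M.map (φ : A →* B)) z
  obtain ⟨s, a, hs, ha⟩ := h (Q.comap (algebraMap B Bₘ)) b
  have hm : ∀ a, m (algebraMap A Aₘ a) = algebraMap B Bₘ (φ a) := IsLocalization.map_eq _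
  refine ⟨algebraMap A Aₘ (s * μ), algebraMap A Aₘ a, ?_, ?_⟩
  · rw [hm, map_mul, map_mul]
    refine fun h' => (‹Q.IsPrime›.mem_or_mem h').elim hs fun h'' => ‹Q.IsPrime›.ne_top ?_
    exact Ideal.eq_top_of_isUnit_mem _ h'' (IsLocalization.map_units Bₘ ⟨φ μ, Submonoid.mem_map_of_mem (φ : A →* B) hμ⟩)
  · have e : m (algebraMap A Aₘ (s * μ)) * z - m (algebraMap A Aₘ a) = algebraMap B Bₘ (φ s * b - φ a) := by
      rw [hm, hm, map_sub, map_mul φ, map_mul, map_mul, ← hz]
      change _ = algebraMap B Bₘ (φ s) * (z * algebraMap B Bₘ (φ μ)) - _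
      ring
    rw [e]
    exact ha

theorem isReduced_of_away (s : Set A) (hs : Ideal.span s = ⊤)
    (h : ∀ f ∈ s, IsReduced (Localization.Away f)) : IsReduced A := by
  refine (isReduced_iff_pow_one_lt 2 one_lt_two).2 fun a ha => ?_
  let I : Ideal A := (Submodule.span A {a}).annihilator
  have hI : ∀ x, x ∈ I ↔ x * a = 0 := fun x => Submodule.mem_annihilator_span_singleton a x
  have h1 : (1 : A) ∈ I.radical := by
    refine (hs ▸ Ideal.span_le.2 fun f hf => ?_ : (⊤ : Ideal A) ≤ I.radical) trivial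
    have := h f hf
    have h0 : algebraMap A (Localization.Away f) a = 0 := IsReduced.eq_zero _ ⟨2, by rw [← map_pow, ha, map_zero]⟩
    obtain ⟨n, hn⟩ := IsLocalization.Away.exists_of_eq (S := Localization.Away f) f (h0.trans (map_zero _).symm)
    exact ⟨n, (hI _).2 (by rw [hn, mul_zero])⟩
  obtain ⟨n, hn⟩ := h1
  have := (hI _).1 hn
  rwa [one_pow, one_mul] at this

/-- A universal homeomorphism to a reduced ring is bijective when it is so locally. -/
theorem bijective_of_away [IsReduced A] {φ : A →+* B} (hφ : UH φ) (s : Set A)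
    (hs : Ideal.span s = ⊤) (h : ∀ f ∈ s, Function.Bijective (Localization.awayMap φ f)) :
    Function.Bijective φ :=
  ⟨injective_of_surjective_comap hφ.2.1, RingHom.surjective_ofLocalizationSpan φ s hs fun r => (h r.1 r.2).2⟩

theorem awayMap_eq (φ : A →+* B) (f : A) [IsLocalization ((Submonoid.powers f).map (φ : A →* B)) (Localization.Away (φ f))] :
    Localization.awayMap φ f =
      (IsLocalization.map (Localization.Away (φ f)) φ
        (show Submonoid.powers f ≤ ((Submonoid.powers f).map (φ : A →* B)).comap φ from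
          (Submonoid.powers f).le_comap_map) : Localization.Away f →+* Localization.Away (φ f)) :=
  IsLocalization.ringHom_ext (Submonoid.powers f) (RingHom.ext fun a => by
    simp [Localization.awayMap, IsLocalization.Away.map])

theorem isLocalization_map_powers (φ : A →+* B) (f : A) :
    IsLocalization ((Submonoid.powers f).map (φ : A →* B)) (Localization.Away (φ f)) := by
  rw [Submonoid.map_powers]
  exact inferInstanceAs (IsLocalization (Submonoid.powers (φ f)) (Localization.Away (φ f)))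

theorem uh_awayMap {φ : A →+* B} (hφ : UH φ) (f : A) : UH (Localization.awayMap φ f) := by
  have := isLocalization_map_powers φ f
  rw [awayMap_eq]
  exact uh_localizationMap hφ _ _ _

theorem trivRes_awayMap {φ : A →+* B} (hφ : TrivRes φ) (f : A) : TrivRes (Localization.awayMap φ f) := by
  have := isLocalization_map_powers φ f
  rw [awayMap_eq]
  exact trivRes_localizationMap hφ _ _ _

theorem isSeminormalRing_of_away (s : Set A) (hs : Ideal.span s = ⊤)
    (h : ∀ f ∈ s, HTop.IsSeminormalRing (Localization.Away f)) : HTop.IsSeminormalRing A := by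
  have := isReduced_of_away s hs fun f hf => isReduced_of_seminormal (h f hf)
  exact isSeminormalRing_of fun D _ _ χ hu ht => bijective_of_away hu s hs fun f hf =>
    bijective_of_seminormal (h f hf) (uh_awayMap hu f) (trivRes_awayMap ht f)

theorem isAWNRing_of_away (s : Set A) (hs : Ideal.span s = ⊤)
    (h : ∀ f ∈ s, HTop.IsAWNRing (Localization.Away f)) : HTop.IsAWNRing A := by
  have := isReduced_of_away s hs fun f hf => isReduced_of_seminormal (h f hf).1
  exact isAWNRing_of fun D _ _ χ hu => bijective_of_away hu s hs fun f hf =>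
    bijective_of_awn (h f hf) (uh_awayMap hu f)

variable (f : A) (L : Type u) [CommRing L] [Algebra A L] [IsLocalization.Away f L]

theorem exists_common_denom (i j : ℕ) (hi : 0 < i) (hj : 0 < j) (x y : L) (P : A → A → A)
    (hP : ∀ t X Y : A, P (t ^ i * X) (t ^ j * Y) = t ^ (i * j) * P X Y)
    (h : ∀ (X Y : A) (n : ℕ), x * algebraMap A L f ^ (i * n) = algebraMap A L X →
      y * algebraMap A L f ^ (j * n) = algebraMap A L Y → algebraMap A L (P X Y) = 0) :
    ∃ (n : ℕ) (X Y : A), x * algebraMap A L f ^ (i * n) = algebraMap A L X ∧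
      y * algebraMap A L f ^ (j * n) = algebraMap A L Y ∧ P X Y = 0 := by
  obtain ⟨a, X₀, hX⟩ := IsLocalization.Away.surj (S := L) f x
  obtain ⟨b, Y₀, hY⟩ := IsLocalization.Away.surj (S := L) f y
  obtain ⟨c, hc⟩ : ∃ c, i * (a + b) = a + c := ⟨i * (a + b) - a,
    (Nat.add_sub_cancel' ((Nat.le_add_right a b).trans (Nat.le_mul_of_pos_left _ hi))).symm⟩
  obtain ⟨d, hd⟩ : ∃ d, j * (a + b) = b + d := ⟨j * (a + b) - b,
    (Nat.add_sub_cancel' ((Nat.le_add_left b a).trans (Nat.le_mul_of_pos_left _ hj))).symm⟩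
  have hX' : x * algebraMap A L f ^ (i * (a + b)) = algebraMap A L (f ^ c * X₀) := by
    rw [hc, pow_add, ← mul_assoc, hX, map_mul, map_pow, mul_comm]
  have hY' : y * algebraMap A L f ^ (j * (a + b)) = algebraMap A L (f ^ d * Y₀) := by
    rw [hd, pow_add, ← mul_assoc, hY, map_mul, map_pow, mul_comm]
  obtain ⟨k, hk⟩ := IsLocalization.Away.exists_of_eq (S := L) f ((h _ _ _ hX' hY').trans (map_zero _).symm)
  rw [mul_zero] at hk
  refine ⟨a + b + k, (f ^ k) ^ i * (f ^ c * X₀), (f ^ k) ^ j * (f ^ d * Y₀), ?_, ?_, ?_⟩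
  · rw [mul_add, pow_add, ← mul_assoc, hX', map_mul _ ((f ^ k) ^ i), map_pow, map_pow, ← pow_mul, mul_comm k i]
    exact mul_comm _ _
  · rw [mul_add, pow_add, ← mul_assoc, hY', map_mul _ ((f ^ k) ^ j), map_pow, map_pow, ← pow_mul, mul_comm k j]
    exact mul_comm _ _
  · rw [hP, ← pow_mul]
    obtain ⟨m, hm⟩ : ∃ m, k * (i * j) = k + m := ⟨k * (i * j) - k,
      (Nat.add_sub_cancel' (Nat.le_mul_of_pos_right _ (Nat.mul_pos hi hj))).symm⟩
    rw [hm, pow_add, mul_comm (f ^ k), mul_assoc, hk, mul_zero]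

include f in
theorem isReduced_away [IsReduced A] : IsReduced L :=
  isReduced_localizationPreserves (Submonoid.powers f) L inferInstance

include f in
theorem isSeminormalRing_away (hA : HTop.IsSeminormalRing A) : HTop.IsSeminormalRing L := by
  have := isReduced_of_seminormal hA
  have := isReduced_away f L
  intro x y hxy
  obtain ⟨n, X, Y, hX, hY, hP⟩ := exists_common_denom f L 2 3 two_pos three_pos x y (fun X Y => X ^ 3 - Y ^ 2)
    (fun t X Y => by ring) fun X Y n hX hY => by
      rw [map_sub, map_pow, map_pow, ← hX, ← hY, mul_pow, mul_pow, hxy]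
      ring
  obtain ⟨a, ⟨ha1, ha2⟩, -⟩ := hA X Y (sub_eq_zero.1 hP)
  obtain ⟨v, hv⟩ := (IsLocalization.Away.algebraMap_pow_isUnit (S := L) f n).exists_right_inv
  have e1 : x = (v * algebraMap A L a) ^ 2 := by
    rw [mul_pow, ← map_pow, ← ha1, ← hX, mul_left_comm, mul_comm 2 n, pow_mul, ← mul_pow, mul_comm v, hv, one_pow, mul_one]
  have e2 : y = (v * algebraMap A L a) ^ 3 := by
    rw [mul_pow, ← map_pow, ← ha2, ← hY, mul_left_comm, mul_comm 3 n, pow_mul, ← mul_pow, mul_comm v, hv, one_pow, mul_one]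
  exact ⟨v * algebraMap A L a, ⟨e1, e2⟩, fun b hb => eq_of_sq_cube (hb.1.symm.trans e1) (hb.2.symm.trans e2)⟩

include f in
theorem isAWNRing_away (hA : HTop.IsAWNRing A) : HTop.IsAWNRing L := by
  refine ⟨isSeminormalRing_away f L hA.1, fun p hp x y hxy => ?_⟩
  have := isReduced_of_seminormal hA.1
  have := isReduced_away f L
  obtain ⟨n, X, Y, hX, hY, hP⟩ := exists_common_denom f L p 1 hp.pos one_pos x y
    (fun X Y => (p : A) ^ p * X - Y ^ p) (fun t X Y => by rw [mul_one, pow_one, mul_pow]; ring)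
    fun X Y n hX hY => by
      rw [map_sub, map_mul, map_pow, map_pow, map_natCast, ← hX, ← hY, mul_pow, ← mul_assoc, hxy,
        one_mul, mul_comm p n, pow_mul, sub_self]
  obtain ⟨a, ⟨ha1, ha2⟩, -⟩ := hA.2 p hp X Y (sub_eq_zero.1 hP)
  obtain ⟨v, hv⟩ := (IsLocalization.Away.algebraMap_pow_isUnit (S := L) f n).exists_right_inv
  have e1 : x = (v * algebraMap A L a) ^ p := by
    rw [mul_pow, ← map_pow, ← ha1, ← hX, mul_left_comm, mul_comm p n, pow_mul, ← mul_pow, mul_comm v, hv, one_pow, mul_one]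
  have e2 : y = (p : L) * (v * algebraMap A L a) := by
    rw [mul_left_comm, ← map_natCast (algebraMap A L) p, ← map_mul, ← ha2, ← hY, one_mul, mul_left_comm, mul_comm v, hv, mul_one]
  exact ⟨v * algebraMap A L a, ⟨e1, e2⟩,
    fun b hb => eq_of_prime_pow hp (hb.1.symm.trans e1) (hb.2.symm.trans e2)⟩

end GrothLib.AWN25
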