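import Groth.Agent.Lib.AWN25.Local
import Groth.Agent.Lib.AWN25.Exists

/-!
# Functoriality of the absolute weak normalization and compatibility with localization
-/

set_option autoImplicit false

universe u

open GrothLib.UHTower TensorProduct

namespace GrothLib.AWN25

theorem uh_baseChange {A B C : Type u} [CommRing A] [CommRing B] [CommRing C] [Algebra A B] [Algebra A C]
    (hC : UH (algebraMap A C)) : UH (algebraMap B (B ⊗[A] C)) := by
  have : Algebra.IsIntegral A C := ⟨hC.1⟩
  refine ⟨fun z => ?_, fun q => ?_, fun K _ f g e => ?_⟩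
  · induction z using TensorProduct.induction_on with
    | zero => exact isIntegral_zero
    | add a b ha hb => exact IsIntegral.add ha hb
    | tmul b c =>
      have h1 : IsIntegral B ((1 : B) ⊗ₜ[A] c) :=
        ((Algebra.IsIntegral.isIntegral (R := A) c).map
          (Algebra.TensorProduct.includeRight (R := A) (A := B))).tower_top
      have h2 := h1.smul b
      rw [TensorProduct.smul_tmul', smul_eq_mul, mul_one] at h2
      exact h2
  · let K := AlgebraicClosure q.asIdeal.ResidueField
    obtain ⟨g, hg⟩ := exists_lift _ hC.1 hC.2.1 ((algebraMap B K).comp (algebraMap A B))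
    let F : B ⊗[A] C →ₐ[B] K := Algebra.TensorProduct.lift (Algebra.ofId B K)
      ⟨g, fun a => (RingHom.congr_fun hg a).trans (IsScalarTower.algebraMap_apply A B K a).symm⟩
      fun _ _ => Commute.all _ _
    refine ⟨⟨RingHom.ker F.toRingHom, RingHom.ker_isPrime _⟩, PrimeSpectrum.ext ?_⟩
    ext b
    change F (algebraMap B (B ⊗[A] C) b) = 0 ↔ _
    rw [F.commutes, IsScalarTower.algebraMap_apply B q.asIdeal.ResidueField, map_eq_zero,
      Ideal.algebraMap_residueField_eq_zero]
  · let i : C →+* B ⊗[A] C := (Algebra.TensorProduct.includeRight (R := A) (A := B)).toRingHom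
    have h2 := hC.2.2 K (f.comp i) (g.comp i) (RingHom.ext fun a => by
      have : i (algebraMap A C a) = algebraMap B (B ⊗[A] C) (algebraMap A B a) :=
        AlgHom.commutes (Algebra.TensorProduct.includeRight (R := A) (A := B) (B := C)) a
      change f (i (algebraMap A C a)) = g (i (algebraMap A C a))
      rw [this]
      exact RingHom.congr_fun e _)
    refine RingHom.ext fun z => ?_
    induction z using TensorProduct.induction_on with
    | zero => simp
    | add a b ha hb => simp [ha, hb]
    | tmul b c =>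
      have e1 : f (b ⊗ₜ[A] (1 : C)) = g (b ⊗ₜ[A] (1 : C)) := RingHom.congr_fun e b
      have e2 : f ((1 : B) ⊗ₜ[A] c) = g ((1 : B) ⊗ₜ[A] c) := RingHom.congr_fun h2 c
      have e3 : b ⊗ₜ[A] c = (b ⊗ₜ[A] (1 : C)) * ((1 : B) ⊗ₜ[A] c) := by simp
      rw [e3, map_mul, map_mul, e1, e2]

theorem isReduced_awn (A : Type u) [CommRing A] : IsReduced (awn A) :=
  isReduced_of_isRingAWN (isRingAWN_toAwn A)

variable {A B C : Type u} [CommRing A] [CommRing B] [CommRing C]

theorem exists_awnMap (g : A →+* B) : ∃ m : awn A →+* awn B, m.comp (toAwn A) = (toAwn B).comp g := by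
  let _ : Algebra A B := g.toAlgebra
  let _ : Algebra A (awn A) := (toAwn A).toAlgebra
  have h : UH (algebraMap B (B ⊗[A] awn A)) := uh_baseChange (uh_toAwn A)
  obtain ⟨χ, hχ, -⟩ := (isRingAWN_toAwn B).2 _ _ (isUnivHomeo_iff_uh.2 h)
  refine ⟨χ.comp (Algebra.TensorProduct.includeRight (R := A) (A := B)).toRingHom, RingHom.ext fun a => ?_⟩
  change χ (Algebra.TensorProduct.includeRight (R := A) (A := B) (algebraMap A (awn A) a)) = toAwn B (g a)
  rw [AlgHom.commutes]
  exact RingHom.congr_fun hχ (g a)

/-- The map of absolute weak normalizations. -/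
noncomputable def awnMap (g : A →+* B) : awn A →+* awn B := (exists_awnMap g).choose

theorem awnMap_comp (g : A →+* B) : (awnMap g).comp (toAwn A) = (toAwn B).comp g :=
  (exists_awnMap g).choose_spec

theorem awn_hom_ext {g h : awn A →+* awn B} (e : g.comp (toAwn A) = h.comp (toAwn A)) : g = h :=
  haveI := isReduced_awn B
  eq_of_radic (uh_toAwn A).2.2 e

theorem awnMap_id : awnMap (RingHom.id A) = RingHom.id (awn A) :=
  awn_hom_ext ((awnMap_comp _).trans rfl)

theorem awnMap_trans (g : A →+* B) (h : B →+* C) : awnMap (h.comp g) = (awnMap h).comp (awnMap g) :=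
  awn_hom_ext (by
    rw [awnMap_comp, RingHom.comp_assoc (h := awnMap h), awnMap_comp, ← RingHom.comp_assoc,
      ← RingHom.comp_assoc, awnMap_comp])

/-- Absolute weak normalization commutes with inverting an element. -/
theorem isLocalization_awn (g : A →+* B) (f : A)
    (hB : letI := g.toAlgebra; IsLocalization.Away f B) :
    letI := (awnMap g).toAlgebra
    IsLocalization.Away (toAwn A f) (awn B) := by
  let _ : Algebra A B := g.toAlgebra
  have hB' : IsLocalization.Away f B := hB
  let L := Localization.Away (toAwn A f)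
  have := isLocalization_map_powers (toAwn A) f
  have hm := uh_localizationMap (uh_toAwn A) (Submonoid.powers f) B L
  let m : B →+* L := IsLocalization.map L (toAwn A)
    (show Submonoid.powers f ≤ ((Submonoid.powers f).map (toAwn A : A →* awn A)).comap (toAwn A) from
      (Submonoid.powers f).le_comap_map)
  have hmg : m.comp g = (algebraMap (awn A) L).comp (toAwn A) := IsLocalization.map_comp _
  have hL : HTop.IsRingAWN m :=
    isRingAWN_of hm (isAWNRing_away (toAwn A f) L (isAWNRing_of_isRingAWN (isRingAWN_toAwn A)))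
  obtain ⟨s, hs, -⟩ := (isRingAWN_toAwn B).2 L m (isUnivHomeo_iff_uh.2 hm)
  obtain ⟨t, ht, -⟩ := hL.2 _ (toAwn B) (isRingAWN_toAwn B).1
  have := isReduced_awn B
  have := isReduced_of_isRingAWN hL
  have e1 : s.comp t = RingHom.id _ := eq_of_radic (uh_toAwn B).2.2
    ((RingHom.comp_assoc _ _ _).trans ((congrArg s.comp ht).trans (hs.trans (RingHom.id_comp _).symm)))
  have e2 : t.comp s = RingHom.id _ := eq_of_radic hm.2.2
    ((RingHom.comp_assoc _ _ _).trans ((congrArg t.comp hs).trans (ht.trans (RingHom.id_comp _).symm)))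
  have e3 : s.comp (algebraMap (awn A) L) = awnMap g := awn_hom_ext (by
    rw [awnMap_comp, RingHom.comp_assoc, ← hmg, ← RingHom.comp_assoc, hs])
  let _ : Algebra (awn A) (awn B) := (awnMap g).toAlgebra
  let e : L ≃ₐ[awn A] awn B :=
    AlgEquiv.ofAlgHom ⟨s, RingHom.congr_fun e3⟩
      ⟨t, fun a => (congrArg t (RingHom.congr_fun e3 a).symm).trans (RingHom.congr_fun e2 _)⟩
      (AlgHom.ext (RingHom.congr_fun e1)) (AlgHom.ext (RingHom.congr_fun e2))
  exact IsLocalization.isLocalization_of_algEquiv (Submonoid.powers (toAwn A f)) e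

end GrothLib.AWN25
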