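import Groth.Agent.Lib.AWN25.Map
import Groth.Agent.Lib.AWN25.Affine
import Groth.Agent.S0415
import Mathlib.AlgebraicGeometry.Sites.SmallAffineZariski
import Mathlib.AlgebraicGeometry.RelativeGluing
import Mathlib.AlgebraicGeometry.Morphisms.Separated

/-!
# The absolute weak normalization of a scheme
-/

set_option autoImplicit false

universe u

open CategoryTheory Limits Opposite AlgebraicGeometry GrothLib.UHTower

namespace GrothLib.AWN25

variable (X : Scheme.{u})

open Scheme.AffineZariskiSite

/-- The weak normalizations of the affine opens. -/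
noncomputable def awnDiag : X.AffineZariskiSiteᵒᵖ ⥤ CommRingCat.{u} where
  obj U := CommRingCat.of (awn Γ(X, U.unop.toOpens))
  map i := CommRingCat.ofHom (awnMap (((toOpensFunctor X).op ⋙ X.presheaf).map i).hom)
  map_id U := CommRingCat.hom_ext (awn_hom_ext (by
    rw [CommRingCat.hom_ofHom, awnMap_comp, CategoryTheory.Functor.map_id]
    rfl))
  map_comp i j := CommRingCat.hom_ext (by
    rw [CommRingCat.hom_ofHom, CategoryTheory.Functor.map_comp, CommRingCat.hom_comp]
    exact awnMap_trans _ _)

/-- The structure map. -/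
noncomputable def awnDiagMap : (toOpensFunctor X).op ⋙ X.presheaf ⟶ awnDiag X where
  app U := CommRingCat.ofHom (toAwn Γ(X, U.unop.toOpens))
  naturality _ _ i := CommRingCat.hom_ext (awnMap_comp (((toOpensFunctor X).op ⋙ X.presheaf).map i).hom).symm

theorem coequifibered_awnDiagMap : (awnDiagMap X).Coequifibered := by
  refine coequifibered_iff_forall_isLocalizationAway.mpr fun U f => ?_
  exact isLocalization_awn (X.presheaf.map (homOfLE (X.basicOpen_le f)).op).hom f
    (U.2.isLocalization_basicOpen f)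

/-- The gluing data of the weak normalization. -/
noncomputable def awnData : (directedCover X).RelativeGluingData :=
  relativeGluingData (coequifibered_awnDiagMap X)

/-- The absolute weak normalization. -/
noncomputable def awnScheme : Scheme.{u} := (awnData X).glued

/-- The cover by spectra of weak normalizations. -/
noncomputable def awnCover : (awnScheme X).OpenCover := (awnData X).cover

/-- The projection. -/
noncomputable def awnHom : awnScheme X ⟶ X := (awnData X).toBase

theorem awnCover_f_awnHom (U : X.AffineZariskiSite) :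
    (awnCover X).f U ≫ awnHom X =
      (Spec.map (CommRingCat.ofHom (toAwn Γ(X, U.toOpens))) ≫ U.2.isoSpec.inv) ≫ U.toOpens.ι :=
  (awnData X).ι_toBase U

theorem isPullback_awnHom (U : X.AffineZariskiSite) :
    IsPullback (Spec.map (CommRingCat.ofHom (toAwn Γ(X, U.toOpens))) ≫ U.2.isoSpec.inv)
      ((awnCover X).f U) U.toOpens.ι (awnHom X) :=
  (awnData X).isPullback_natTrans_ι_toBase U

instance : IsReduced (awnScheme X) := by
  have : ∀ U : X.AffineZariskiSite, IsReduced (Spec (CommRingCat.of (awn Γ(X, U.toOpens)))) := fun U => by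
    have : _root_.IsReduced (CommRingCat.of (awn Γ(X, U.toOpens))) := isReduced_awn _
    infer_instance
  have : ∀ i, IsReduced ((awnCover X).X i) := this
  exact AlgebraicGeometry.IsReduced.of_openCover _ (awnCover X)

theorem isUnivHomeo_awnHom : FlatMor.IsUnivHomeo (awnHom X) := by
  have hU : ∀ U : X.AffineZariskiSite, ∀ (P : MorphismProperty Scheme.{u}) [P.RespectsIso],
      P (Spec.map (CommRingCat.ofHom (toAwn Γ(X, U.toOpens)))) → P (awnHom X ∣_ U.toOpens) := fun U P _ h => by
    let i := (isPullback_morphismRestrict (awnHom X) U.toOpens).isoIsPullback _ _ (isPullback_awnHom X U)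
    have e : i.hom ≫ (Spec.map (CommRingCat.ofHom (toAwn Γ(X, U.toOpens))) ≫ U.2.isoSpec.inv) =
        awnHom X ∣_ U.toOpens := IsPullback.isoIsPullback_hom_fst _ _ _ _
    rw [← e, MorphismProperty.cancel_left_of_respectsIso P i.hom]
    exact (MorphismProperty.cancel_right_of_respectsIso P _ U.2.isoSpec.inv).2 h
  have htop : ⨆ U : X.AffineZariskiSite, U.toOpens = ⊤ := iSup_affineOpens_eq_top X
  have hp : ∀ U : X.AffineZariskiSite, FlatMor.IsUnivHomeo (Spec.map (CommRingCat.ofHom (toAwn Γ(X, U.toOpens)))) :=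
    fun U => (isRingAWN_toAwn _).1
  refine (Frob.isUnivHomeo_iff _).2 ⟨?_, ?_, ?_⟩
  · exact IsZariskiLocalAtTarget.of_iSup_eq_top (P := @UniversallyClosed) _ htop fun U =>
      hU U _ (Frob.universallyClosed_of _ (hp U))
  · exact IsZariskiLocalAtTarget.of_iSup_eq_top (P := @UniversallyInjective) _ htop fun U =>
      hU U _ (Frob.universallyInjective_of _ (hp U))
  · exact IsZariskiLocalAtTarget.of_iSup_eq_top (P := @Surjective) _ htop fun U =>
      hU U _ (Frob.surjective_of _ (hp U))

variable {X}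

/-- Morphisms from a reduced scheme to a separated universally injective scheme over the base are unique. -/
theorem hom_ext_of_univInjective {T Y : Scheme.{u}} [IsReduced T] (π : Y ⟶ X) [IsSeparated π]
    [UniversallyInjective π] {g₁ g₂ : T ⟶ Y} (h : g₁ ≫ π = g₂ ≫ π) : g₁ = g₂ := by
  refine ext_of_fromSpecResidueField_eq g₁ g₂ π Set.univ dense_univ (fun x _ => ?_) h
  have := ((tfae_universallyInjective π).out 0 1).mp (inferInstance : UniversallyInjective π)
  refine this _ ?_
  exact (Category.assoc _ _ _).trans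
    ((congrArg (T.fromSpecResidueField x ≫ ·) h).trans (Category.assoc _ _ _).symm)

theorem exists_desc {Y : Scheme.{u}} (π : Y ⟶ X) (hπ : FlatMor.IsUnivHomeo π) (U : X.AffineZariskiSite) :
    ∃ g : Spec (CommRingCat.of (awn Γ(X, U.toOpens))) ⟶ Y,
      g ≫ π = (Spec.map (CommRingCat.ofHom (toAwn Γ(X, U.toOpens))) ≫ U.2.isoSpec.inv) ≫ U.toOpens.ι := by
  obtain ⟨hint, -, -⟩ := (Groth.Agent.S0415.result π).1 hπ
  have hV : IsAffineOpen (π ⁻¹ᵁ U.toOpens) := U.2.preimage π
  have hpres : FlatMor.IsUnivHomeo (π ∣_ U.toOpens) := by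
    have := Frob.universallyClosed_of π hπ
    have := Frob.universallyInjective_of π hπ
    have := Frob.surjective_of π hπ
    have h1 : UniversallyClosed (π ∣_ U.toOpens) := IsZariskiLocalAtTarget.restrict ‹_› _
    have h2 : UniversallyInjective (π ∣_ U.toOpens) := IsZariskiLocalAtTarget.restrict ‹_› _
    have h3 : Surjective (π ∣_ U.toOpens) := IsZariskiLocalAtTarget.restrict ‹_› _
    exact (Frob.isUnivHomeo_iff _).2 ⟨h1, h2, h3⟩
  have : FlatMor.IsUnivHomeo.{u}.RespectsIso := MorphismProperty.universally_respectsIso _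
  let e := hV.isoSpec
  let m := e.inv ≫ (π ∣_ U.toOpens) ≫ U.2.isoSpec.hom
  obtain ⟨ψ, hψ⟩ := Spec.map_surjective m
  have hm : FlatMor.IsUnivHomeo m := by
    refine (MorphismProperty.cancel_left_of_respectsIso FlatMor.IsUnivHomeo e.inv _).2 ?_
    exact (MorphismProperty.cancel_right_of_respectsIso FlatMor.IsUnivHomeo _ U.2.isoSpec.hom).2 hpres
  rw [← hψ] at hm
  obtain ⟨χ, hχ, -⟩ := (isRingAWN_toAwn Γ(X, U.toOpens)).2 _ ψ.hom hm
  refine ⟨Spec.map (CommRingCat.ofHom χ) ≫ e.inv ≫ (π ⁻¹ᵁ U.toOpens).ι, ?_⟩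
  have e1 : Spec.map (CommRingCat.ofHom (toAwn Γ(X, U.toOpens))) = Spec.map (CommRingCat.ofHom χ) ≫ m := by
    rw [← hψ, ← Spec.map_comp]
    exact congrArg Spec.map (CommRingCat.hom_ext hχ.symm)
  rw [e1]
  simp [m]

theorem isAWNormalization_awnHom : HTop.IsAWNormalization (awnHom X) := by
  refine ⟨isUnivHomeo_awnHom X, fun Y π hπ => ?_⟩
  obtain ⟨hint, hinj, -⟩ := (Groth.Agent.S0415.result π).1 hπ
  choose g hg using exists_desc π hπ
  have hg' : ∀ U, g U ≫ π = (awnCover X).f U ≫ awnHom X := fun U =>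
    (hg U).trans (awnCover_f_awnHom X U).symm
  let h := (awnCover X).glueMorphisms g fun U V => by
    have : IsReduced (pullback ((awnCover X).f U) ((awnCover X).f V)) :=
      isReduced_of_isOpenImmersion (pullback.fst _ _ ≫ (awnCover X).f U)
    refine hom_ext_of_univInjective π ?_
    exact (Category.assoc _ _ _).trans ((congrArg (pullback.fst _ _ ≫ ·) (hg' U)).trans
      ((pullback.condition_assoc _).trans ((congrArg (pullback.snd _ _ ≫ ·) (hg' V)).symm.trans (Category.assoc _ _ _).symm)))
  have hh : h ≫ π = awnHom X := (awnCover X).hom_ext _ _ fun U => by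
    rw [Scheme.Cover.ι_glueMorphisms_assoc]
    exact hg' U
  exact ⟨h, hh, fun h' hh' => hom_ext_of_univInjective π (hh'.trans hh.symm)⟩

theorem isAWN_awnScheme : HTop.IsAWN (awnScheme X) := fun x => by
  let U := (awnCover X).idx x
  obtain ⟨y, hy⟩ : ∃ y, (awnCover X).f U y = x := (awnCover X).covers x
  have : IsAffine ((awnCover X).X U) := inferInstanceAs (IsAffine (Spec _))
  have hS : IsAffineOpen (((awnCover X).f U) ''ᵁ ⊤) := (isAffineOpen_top _).image_of_isOpenImmersion _
  refine ⟨⟨_, hS⟩, ⟨y, trivial, hy⟩, ?_⟩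
  let e : Γ(awnScheme X, ((awnCover X).f U) ''ᵁ ⊤) ≅ CommRingCat.of (awn Γ(X, U.toOpens)) :=
    ((awnCover X).f U).appIso ⊤ ≪≫ Scheme.ΓSpecIso _
  exact isAWNRing_of_bijective (isAWNRing_of_isRingAWN (isRingAWN_toAwn _))
    (ConcreteCategory.bijective_of_isIso e.hom)

end GrothLib.AWN25
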