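import Groth.Agent.Lib.AWN25.Scheme

/-!
# Characterisations of absolutely weakly normal schemes
-/

set_option autoImplicit false

universe u

open CategoryTheory Limits Opposite AlgebraicGeometry GrothLib.UHTower

namespace GrothLib.AWN25

theorem isReduced_of_isAWN {X : Scheme.{u}} (h : HTop.IsAWN X) : AlgebraicGeometry.IsReduced X := by
  have : ∀ U : X.affineOpens, _root_.IsReduced Γ(X, U) := fun U =>
    isReduced_of_seminormal ((isAWN_iff X).1 h U).1
  exact @AlgebraicGeometry.IsReduced.of_openCover X (X.openCoverOfIsOpenCover _ (iSup_affineOpens_eq_top X))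
    fun (U : X.affineOpens) => by
      have h1 : _root_.IsReduced Γ((U.1 : Scheme), ⊤) :=
        isReduced_of_injective _ (ConcreteCategory.bijective_of_isIso U.1.topIso.hom).1
      have : IsAffine (U.1 : Scheme) := U.2
      exact (isReduced_of_isAffine_isReduced (X := (U.1 : Scheme)) :)

/-- A universal homeomorphism from a reduced scheme onto an absolutely weakly normal scheme is an iso. -/
theorem isIso_of_isAWN {X Y : Scheme.{u}} (π : Y ⟶ X) (hπ : FlatMor.IsUnivHomeo π)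
    [AlgebraicGeometry.IsReduced Y] (hX : HTop.IsAWN X) : IsIso π := by
  obtain ⟨hint, -, -⟩ := (Groth.Agent.S0415.result π).1 hπ
  refine IsZariskiLocalAtTarget.of_iSup_eq_top (P := MorphismProperty.isomorphisms Scheme) _
    (iSup_affineOpens_eq_top X) fun U => ?_
  have hV : IsAffineOpen (π ⁻¹ᵁ U.1) := U.2.preimage π
  have hres : FlatMor.IsUnivHomeo (π ∣_ U.1) := by
    have h1 : UniversallyClosed (π ∣_ U.1) :=
      IsZariskiLocalAtTarget.restrict (Frob.universallyClosed_of π hπ) _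
    have h2 : UniversallyInjective (π ∣_ U.1) :=
      IsZariskiLocalAtTarget.restrict (Frob.universallyInjective_of π hπ) _
    have h3 : Surjective (π ∣_ U.1) := IsZariskiLocalAtTarget.restrict (Frob.surjective_of π hπ) _
    exact (Frob.isUnivHomeo_iff _).2 ⟨h1, h2, h3⟩
  have : FlatMor.IsUnivHomeo.{u}.RespectsIso := MorphismProperty.universally_respectsIso _
  let m := hV.isoSpec.inv ≫ (π ∣_ U.1) ≫ U.2.isoSpec.hom
  obtain ⟨ψ, hψ⟩ := Spec.map_surjective m
  have hm : FlatMor.IsUnivHomeo m := (MorphismProperty.cancel_left_of_respectsIso FlatMor.IsUnivHomeo _ _).2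
    ((MorphismProperty.cancel_right_of_respectsIso FlatMor.IsUnivHomeo _ U.2.isoSpec.hom).2 hres)
  rw [← hψ] at hm
  have : _root_.IsReduced Γ(Y, π ⁻¹ᵁ U.1) := inferInstance
  have hb : Function.Bijective ψ.hom :=
    bijective_of_awn ((isAWN_iff X).1 hX U) (isUnivHomeo_iff_uh.1 hm)
  have : IsIso ψ := (ConcreteCategory.isIso_iff_bijective ψ).2 hb
  have : IsIso m := hψ ▸ inferInstance
  change IsIso (π ∣_ U.1)
  have e : π ∣_ U.1 = hV.isoSpec.hom ≫ m ≫ U.2.isoSpec.inv := by simp [m]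
  rw [e]
  infer_instance

variable {X : Scheme.{u}}

theorem isAWN_of_iso {Y : Scheme.{u}} (e : Y ≅ X) (h : HTop.IsAWN X) : HTop.IsAWN Y := fun y => by
  obtain ⟨U, hU, hQ⟩ := h (e.hom y)
  refine ⟨⟨e.hom ⁻¹ᵁ U.1, U.2.preimage e.hom⟩, hU, ?_⟩
  exact isAWNRing_of_bijective hQ
    (ConcreteCategory.bijective_of_isIso (inv (e.hom.app U.1)) : Function.Bijective (inv (e.hom.app U.1)).hom)

theorem isAWN_source {X' : Scheme.{u}} {ν : X' ⟶ X} (hν : HTop.IsAWNormalization ν) : HTop.IsAWN X' := by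
  obtain ⟨a, ha, -⟩ := hν.2 _ (awnHom X) (isUnivHomeo_awnHom X)
  obtain ⟨b, hb, -⟩ := isAWNormalization_awnHom.2 _ ν hν.1
  obtain ⟨c, -, hc⟩ := hν.2 _ ν hν.1
  obtain ⟨d, -, hd⟩ := (isAWNormalization_awnHom (X := X)).2 _ (awnHom X) (isUnivHomeo_awnHom X)
  refine isAWN_of_iso ⟨a, b, ?_, ?_⟩ isAWN_awnScheme
  · exact (hc _ ((Category.assoc _ _ _).trans ((congrArg (a ≫ ·) hb).trans ha))).trans (hc _ (Category.id_comp ν)).symm
  · exact (hd _ ((Category.assoc _ _ _).trans ((congrArg (b ≫ ·) ha).trans hb))).trans (hd _ (Category.id_comp _)).symm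

theorem isReduced_source {X' : Scheme.{u}} {ν : X' ⟶ X} (hν : HTop.IsAWNormalization ν) :
    AlgebraicGeometry.IsReduced X' := isReduced_of_isAWN (isAWN_source hν)

theorem isIso_iff_isAWN {X' Y : Scheme.{u}} {ν : X' ⟶ X} (hν : HTop.IsAWNormalization ν) (π : Y ⟶ X)
    (hπ : FlatMor.IsUnivHomeo π) (h : X' ⟶ Y) (hh : h ≫ π = ν) : IsIso h ↔ HTop.IsAWN Y := by
  refine ⟨fun _ => isAWN_of_iso (asIso h).symm (isAWN_source hν), fun hY => ?_⟩
  have := isReduced_source hν
  obtain ⟨hint, -, -⟩ := (Groth.Agent.S0415.result π).1 hπ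
  have : FlatMor.IsUnivHomeo (h ≫ π) := hh ▸ hν.1
  exact isIso_of_isAWN h (Frob.isUnivHomeo_of_comp_right h π this hπ) hY

theorem isAWN_iff_isAWNormalization_id (X : Scheme.{u}) :
    HTop.IsAWN X ↔ HTop.IsAWNormalization (𝟙 X) := by
  refine ⟨fun h => ?_, isAWN_source⟩
  have := isIso_of_isAWN (awnHom X) (isUnivHomeo_awnHom X) h
  have hid : FlatMor.IsUnivHomeo (𝟙 X) := by
    refine (Frob.isUnivHomeo_iff _).2 ⟨inferInstance, inferInstance, inferInstance⟩
  refine ⟨hid, fun Y π hπ => ?_⟩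
  obtain ⟨g, hg, hu⟩ := (isAWNormalization_awnHom (X := X)).2 Y π hπ
  refine ⟨inv (awnHom X) ≫ g, by simp [hg], fun g' hg' => ?_⟩
  rw [← hu (awnHom X ≫ g') (by simp [show g' ≫ π = 𝟙 X from hg']), IsIso.inv_hom_id_assoc]

theorem isAWN_iff_forall_isIso (X : Scheme.{u}) :
    HTop.IsAWN X ↔ ∀ (Y : Scheme.{u}) (π : Y ⟶ X), FlatMor.IsUnivHomeo π → AlgebraicGeometry.IsReduced Y → IsIso π := by
  refine ⟨fun h Y π hπ _ => isIso_of_isAWN π hπ h, fun h => ?_⟩
  have := h _ (awnHom X) (isUnivHomeo_awnHom X) inferInstance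
  exact isAWN_of_iso (asIso (awnHom X)).symm isAWN_awnScheme

end GrothLib.AWN25
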